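import Mathlib

/-!
# Powers of a non-abelian simple group: normal subgroups and automorphisms
-/

set_option autoImplicit false
set_option linter.unusedSectionVars false

namespace Cfsg.Agent.Lib.H4.OScott

open scoped commutatorElement

variable {T : Type*} [Group T]

/-- a non-central element exists for every nontrivial element of a non-abelian simple group -/
theorem exists_not_commute [IsSimpleGroup T] (hT : ∃ x y : T, x * y ≠ y * x) {t : T} (ht : t ≠ 1) :
    ∃ u : T, u * t ≠ t * u := by
  by_contra hcon
  push Not at hcon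
  have hc : t ∈ Subgroup.center T := by
    rw [Subgroup.mem_center_iff]
    exact hcon
  rcases (Subgroup.center T).normal_of_characteristic.eq_bot_or_eq_top with h | h
  · rw [h, Subgroup.mem_bot] at hc
    exact ht hc
  · obtain ⟨x, y, hxy⟩ := hT
    apply hxy
    have : y ∈ Subgroup.center T := by rw [h]; trivial
    rw [Subgroup.mem_center_iff] at this
    exact this x

/-- a subgroup containing all commutators is everything -/
theorem eq_top_of_commutators [IsSimpleGroup T] (hT : ∃ x y : T, x * y ≠ y * x) (B : Subgroup T)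
    (hB : ∀ x y : T, ⁅x, y⁆ ∈ B) : B = ⊤ := by
  have h1 : commutator T ≤ B := by
    rw [commutator_def, Subgroup.commutator_le]
    intro x _ y _
    exact hB x y
  rcases (inferInstance : (commutator T).Normal).eq_bot_or_eq_top with h | h
  · exfalso
    obtain ⟨x, y, hxy⟩ := hT
    apply hxy
    have : ⁅x, y⁆ ∈ commutator T := by
      rw [commutator_def]
      exact Subgroup.commutator_mem_commutator (Subgroup.mem_top x) (Subgroup.mem_top y)
    rw [h, Subgroup.mem_bot, commutatorElement_eq_one_iff_mul_comm] at this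
    exact this
  · rw [h] at h1
    exact top_le_iff.1 h1

variable {ι : Type*} [Fintype ι] [DecidableEq ι]

theorem mulSingle_conj (i : ι) (u : T) (f : ι → T) :
    Pi.mulSingle i u * f * (Pi.mulSingle i u)⁻¹ * f⁻¹ = Pi.mulSingle i (u * f i * u⁻¹ * (f i)⁻¹) := by
  ext j
  by_cases h : j = i
  · subst h
    simp
  · simp [Pi.mulSingle_eq_of_ne h]

/-- a nontrivial normal subgroup of a power of a non-abelian simple group contains a factor -/
theorem exists_factor_le [IsSimpleGroup T] (hT : ∃ x y : T, x * y ≠ y * x) (M : Subgroup (ι → T))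
    [hM : M.Normal] (hne : M ≠ ⊥) : ∃ j : ι, ∀ t : T, Pi.mulSingle j t ∈ M := by
  obtain ⟨f, hfM, hf1⟩ : ∃ f ∈ M, f ≠ 1 := by
    by_contra hcon
    push Not at hcon
    apply hne
    rw [Subgroup.eq_bot_iff_forall]
    exact hcon
  obtain ⟨j, hj⟩ : ∃ j, f j ≠ 1 := by
    by_contra hcon
    push Not at hcon
    exact hf1 (funext hcon)
  obtain ⟨u, hu⟩ := exists_not_commute hT hj
  refine ⟨j, ?_⟩
  -- the subgroup of `T` of elements whose single lies in `M`
  let B : Subgroup T :=
    { carrier := {t | Pi.mulSingle j t ∈ M}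
      one_mem' := by
        show Pi.mulSingle j (1 : T) ∈ M
        rw [Pi.mulSingle_one]
        exact M.one_mem
      mul_mem' := by
        intro a b ha hb
        show Pi.mulSingle j (a * b) ∈ M
        rw [Pi.mulSingle_mul]
        exact M.mul_mem ha hb
      inv_mem' := by
        intro a ha
        show Pi.mulSingle j a⁻¹ ∈ M
        rw [Pi.mulSingle_inv]
        exact M.inv_mem ha }
  have hBn : B.Normal := by
    constructor
    intro t ht g
    show Pi.mulSingle j (g * t * g⁻¹) ∈ M
    rw [Pi.mulSingle_mul, Pi.mulSingle_mul, Pi.mulSingle_inv]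
    exact hM.conj_mem _ ht _
  have hBne : B ≠ ⊥ := by
    intro h
    have hmem : u * f j * u⁻¹ * (f j)⁻¹ ∈ B := by
      show Pi.mulSingle j (u * f j * u⁻¹ * (f j)⁻¹) ∈ M
      rw [← mulSingle_conj]
      exact M.mul_mem (hM.conj_mem f hfM _) (M.inv_mem hfM)
    rw [h, Subgroup.mem_bot] at hmem
    apply hu
    have : u * f j * u⁻¹ = f j := by
      rw [← mul_inv_eq_one]
      exact hmem
    calc u * f j = u * f j * u⁻¹ * u := by group
      _ = f j * u := by rw [this]
  rcases hBn.eq_bot_or_eq_top with h | h
  · exact absurd h hBne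
  · intro t
    have : t ∈ B := by rw [h]; trivial
    exact this

/-- the coordinate is trivial iff the element commutes with the factor -/
theorem coord_eq_one_iff [IsSimpleGroup T] (hT : ∃ x y : T, x * y ≠ y * x) (f : ι → T) (i : ι) :
    f i = 1 ↔ ∀ u : T, Pi.mulSingle i u * f = f * Pi.mulSingle i u := by
  constructor
  · intro h u
    ext j
    by_cases hj : j = i
    · subst hj
      simp [h]
    · simp [Pi.mulSingle_eq_of_ne hj]
  · intro h
    by_contra hne
    obtain ⟨u, hu⟩ := exists_not_commute hT hne
    apply hu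
    have := congrFun (h u) i
    simpa using this

/-- an automorphism of a power of a non-abelian simple group permutes the factors -/
theorem exists_perm_of_aut [IsSimpleGroup T] (hT : ∃ x y : T, x * y ≠ y * x)
    (ψ : (ι → T) ≃* (ι → T)) :
    ∃ ρ : Equiv.Perm ι, ∀ (f : ι → T) (i : ι), f i = 1 ↔ ψ f (ρ i) = 1 := by
  -- for each `i` the image of the `i`-th factor is a factor
  have key : ∀ i : ι, ∃ j : ι, (∀ t : T, ∃ t' : T, ψ (Pi.mulSingle i t) = Pi.mulSingle j t') ∧
      ∀ t' : T, ∃ t : T, ψ (Pi.mulSingle i t) = Pi.mulSingle j t' := by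
    intro i
    -- the image of the factor
    let M : Subgroup (ι → T) := (MonoidHom.range (MonoidHom.mulSingle (fun _ : ι => T) i)).map
      ψ.toMonoidHom
    have hMmem : ∀ g : ι → T, g ∈ M ↔ ∃ t : T, ψ (Pi.mulSingle i t) = g := by
      intro g
      constructor
      · rintro ⟨_, ⟨t, rfl⟩, rfl⟩
        exact ⟨t, rfl⟩
      · rintro ⟨t, rfl⟩
        exact ⟨_, ⟨t, rfl⟩, rfl⟩
    have hMn : M.Normal := by
      constructor
      intro g hg x
      obtain ⟨t, rfl⟩ := (hMmem g).1 hg
      rw [hMmem]
      obtain ⟨y, rfl⟩ := ψ.surjective x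
      refine ⟨y i * t * (y i)⁻¹, ?_⟩
      rw [← map_inv, ← map_mul, ← map_mul]
      congr 1
      ext l
      by_cases hl : l = i
      · subst hl
        simp
      · simp [Pi.mulSingle_eq_of_ne hl]
    have hMne : M ≠ ⊥ := by
      obtain ⟨x, y, hxy⟩ := hT
      have hx1 : x ≠ 1 := by
        rintro rfl
        simp at hxy
      intro h
      have : ψ (Pi.mulSingle i x) ∈ M := (hMmem _).2 ⟨x, rfl⟩
      rw [h, Subgroup.mem_bot] at this
      have h2 := ψ.injective (this.trans (map_one ψ).symm)
      apply hx1
      have := congrFun h2 i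
      simpa using this
    obtain ⟨j, hj⟩ := exists_factor_le hT M hMne
    refine ⟨j, ?_, ?_⟩
    · -- the subgroup of `t` mapped into the `j`-th factor
      let B : Subgroup T :=
        { carrier := {t | ∃ t' : T, ψ (Pi.mulSingle i t) = Pi.mulSingle j t'}
          one_mem' := ⟨1, by simp⟩
          mul_mem' := by
            rintro a b ⟨a', ha⟩ ⟨b', hb⟩
            exact ⟨a' * b', by rw [Pi.mulSingle_mul, map_mul, ha, hb, Pi.mulSingle_mul]⟩
          inv_mem' := by
            rintro a ⟨a', ha⟩
            exact ⟨a'⁻¹, by rw [Pi.mulSingle_inv, map_inv, ha, Pi.mulSingle_inv]⟩ }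
      have hBn : B.Normal := by
        constructor
        rintro t ⟨t', ht⟩ g
        -- conjugate
        obtain ⟨z, hz⟩ : ∃ z : ι → T, ψ (Pi.mulSingle i g) = z := ⟨_, rfl⟩
        refine ⟨z j * t' * (z j)⁻¹, ?_⟩
        rw [Pi.mulSingle_mul, Pi.mulSingle_mul, Pi.mulSingle_inv, map_mul, map_mul, map_inv, ht, hz]
        ext l
        by_cases hl : l = j
        · subst hl
          simp
        · simp [Pi.mulSingle_eq_of_ne hl]
      have hBne : B ≠ ⊥ := by
        obtain ⟨x, y, hxy⟩ := hT
        have hx1 : x ≠ 1 := by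
          rintro rfl
          simp at hxy
        obtain ⟨t, ht⟩ := (hMmem _).1 (hj x)
        intro h
        have hmem : t ∈ B := ⟨x, ht⟩
        rw [h, Subgroup.mem_bot] at hmem
        rw [hmem] at ht
        apply hx1
        have h3 : (Pi.mulSingle j x : ι → T) = 1 := by
          rw [← ht]
          simp
        have := congrFun h3 j
        simpa using this
      intro t
      rcases hBn.eq_bot_or_eq_top with h | h
      · exact absurd h hBne
      · have : t ∈ B := by rw [h]; trivial
        exact this
    · intro t'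
      exact (hMmem _).1 (hj t')
  choose ρ hρ1 hρ2 using key
  -- the key equivalence
  have hiff : ∀ (f : ι → T) (i : ι), f i = 1 ↔ ψ f (ρ i) = 1 := by
    intro f i
    rw [coord_eq_one_iff hT f i, coord_eq_one_iff hT (ψ f) (ρ i)]
    constructor
    · intro h u'
      obtain ⟨u, hu⟩ := hρ2 i u'
      rw [← hu, ← map_mul, ← map_mul, h u]
    · intro h u
      obtain ⟨u', hu'⟩ := hρ1 i u
      apply ψ.injective
      rw [map_mul, map_mul, hu', h u']
  have hinj : Function.Injective ρ := by
    intro i i' hii
    by_contra hne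
    obtain ⟨x, y, hxy⟩ := hT
    have hx1 : x ≠ 1 := by
      rintro rfl
      simp at hxy
    have h1 : (Pi.mulSingle i x : ι → T) i' = 1 := by
      rw [Pi.mulSingle_eq_of_ne]
      exact fun h => hne h.symm
    have h2 := (hiff _ i').1 h1
    rw [← hii] at h2
    have h3 := (hiff _ i).2 h2
    apply hx1
    simpa using h3
  exact ⟨Equiv.ofBijective ρ (Finite.injective_iff_bijective.1 hinj), fun f i => by
    simpa using hiff f i⟩

end Cfsg.Agent.Lib.H4.OScott
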