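import Mathlib
import Cfsg.Agent.Lib.H4.OScott.Simple

/-!
# Invariant maximal subgroups of a power of a non-abelian simple group
-/

set_option autoImplicit false
set_option linter.unusedSectionVars false

namespace Cfsg.Agent.Lib.H4.OScott

open scoped commutatorElement

variable {T : Type*} [Group T] {ι : Type*} [Fintype ι] [DecidableEq ι]

/-- the elements supported on a set of indices -/
def supp (S : Set ι) : Subgroup (ι → T) where
  carrier := {f | ∀ j, j ∉ S → f j = 1}
  one_mem' := fun _ _ => rfl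
  mul_mem' := by
    intro a b ha hb j hj
    show a j * b j = 1
    rw [ha j hj, hb j hj, one_mul]
  inv_mem' := by
    intro a ha j hj
    show (a j)⁻¹ = 1
    rw [ha j hj, inv_one]

theorem mem_supp {S : Set ι} {f : ι → T} : f ∈ supp S ↔ ∀ j, j ∉ S → f j = 1 := Iff.rfl

instance supp_normal (S : Set ι) : (supp (T := T) S).Normal := by
  constructor
  intro f hf g j hj
  show g j * f j * (g j)⁻¹ = 1
  rw [hf j hj, mul_one, mul_inv_cancel]

/-- the relation identifying coordinates with the same kernel on `L` -/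
def rel (L : Subgroup (ι → T)) (i j : ι) : Prop := ∀ f ∈ L, f i = 1 ↔ f j = 1

theorem rel_refl (L : Subgroup (ι → T)) (i : ι) : rel L i i := fun _ _ => Iff.rfl

theorem rel_symm {L : Subgroup (ι → T)} {i j : ι} (h : rel L i j) : rel L j i :=
  fun f hf => (h f hf).symm

theorem rel_trans {L : Subgroup (ι → T)} {i j l : ι} (h : rel L i j) (h' : rel L j l) :
    rel L i l := fun f hf => (h f hf).trans (h' f hf)

/-- the setoid of `rel` -/
def relSetoid (L : Subgroup (ι → T)) : Setoid ι :=
  ⟨rel L, ⟨rel_refl L, rel_symm, rel_trans⟩⟩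

section graph

variable (L : Subgroup (ι → T)) (hsub : ∀ (i : ι) (t : T), ∃ f ∈ L, f i = t)

theorem rel_coord_eq {i j : ι} (h : rel L i j) {f g : ι → T} (hf : f ∈ L) (hg : g ∈ L)
    (hi : f i = g i) : f j = g j := by
  have h1 : (f⁻¹ * g) i = 1 := by
    show (f i)⁻¹ * g i = 1
    rw [hi, inv_mul_cancel]
  have h2 := (h _ (L.mul_mem (L.inv_mem hf) hg)).1 h1
  have h3 : (f j)⁻¹ * g j = 1 := h2
  exact (inv_mul_eq_one.1 h3)

/-- the map between equivalent coordinates -/
noncomputable def graphFun (i j : ι) (t : T) : T := (Classical.choose (hsub i t)) j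

theorem graphFun_spec {i j : ι} (h : rel L i j) {f : ι → T} (hf : f ∈ L) :
    graphFun L hsub i j (f i) = f j := by
  have hc := Classical.choose_spec (hsub i (f i))
  exact rel_coord_eq L h hc.1 hf hc.2

/-- the isomorphism between equivalent coordinates -/
noncomputable def graphEquiv {i j : ι} (h : rel L i j) : T ≃* T where
  toFun := graphFun L hsub i j
  invFun := graphFun L hsub j i
  left_inv := by
    intro t
    obtain ⟨f, hf, rfl⟩ := hsub i t
    rw [graphFun_spec L hsub h hf, graphFun_spec L hsub (rel_symm h) hf]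
  right_inv := by
    intro t
    obtain ⟨f, hf, rfl⟩ := hsub j t
    rw [graphFun_spec L hsub (rel_symm h) hf, graphFun_spec L hsub h hf]
  map_mul' := by
    intro t u
    obtain ⟨f, hf, rfl⟩ := hsub i t
    obtain ⟨g, hg, rfl⟩ := hsub i u
    have : f i * g i = (f * g) i := rfl
    rw [this, graphFun_spec L hsub h (L.mul_mem hf hg), graphFun_spec L hsub h hf,
      graphFun_spec L hsub h hg]
    rfl

theorem graphEquiv_spec {i j : ι} (h : rel L i j) {f : ι → T} (hf : f ∈ L) :
    graphEquiv L hsub h (f i) = f j := graphFun_spec L hsub h hf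

end graph

section main

variable [IsSimpleGroup T] (hT : ∃ x y : T, x * y ≠ y * x)

/-- a chosen permutation of the indices for an automorphism -/
noncomputable def autPerm (ψ : (ι → T) ≃* (ι → T)) : Equiv.Perm ι :=
  Classical.choose (exists_perm_of_aut hT ψ)

theorem autPerm_spec (ψ : (ι → T) ≃* (ι → T)) (f : ι → T) (i : ι) :
    f i = 1 ↔ ψ f (autPerm hT ψ i) = 1 :=
  Classical.choose_spec (exists_perm_of_aut hT ψ) f i

theorem autPerm_coord_eq (ψ : (ι → T) ≃* (ι → T)) {f g : ι → T} {i : ι} (h : f i = g i) :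
    ψ f (autPerm hT ψ i) = ψ g (autPerm hT ψ i) := by
  have h1 : (f⁻¹ * g) i = 1 := by
    show (f i)⁻¹ * g i = 1
    rw [h, inv_mul_cancel]
  have h2 := (autPerm_spec hT ψ _ i).1 h1
  rw [map_mul, map_inv] at h2
  have h3 : (ψ f (autPerm hT ψ i))⁻¹ * ψ g (autPerm hT ψ i) = 1 := h2
  exact inv_mul_eq_one.1 h3

variable (Ψ : Set ((ι → T) ≃* (ι → T))) (L : Subgroup (ι → T))
  (hΨ : ∀ ψ ∈ Ψ, ∀ f : ι → T, f ∈ L ↔ ψ f ∈ L)
  (hmin : ∀ M : Subgroup (ι → T), M.Normal → (∀ ψ ∈ Ψ, ∀ f ∈ M, ψ f ∈ M) → M = ⊥ ∨ M = ⊤)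

include hmin in
/-- a forward invariant set of indices is empty or everything -/
theorem invariant_set (S : Set ι) (hS : ∀ ψ ∈ Ψ, ∀ i ∈ S, autPerm hT ψ i ∈ S) :
    S = ∅ ∨ S = Set.univ := by
  have hinv : ∀ ψ ∈ Ψ, ∀ f ∈ supp (T := T) S, ψ f ∈ supp (T := T) S := by
    intro ψ hψ f hf j' hj'
    obtain ⟨j, rfl⟩ := (autPerm hT ψ).surjective j'
    have hj : j ∉ S := fun h => hj' (hS ψ hψ j h)
    exact (autPerm_spec hT ψ f j).1 (hf j hj)
  obtain ⟨x, y, hxy⟩ := hT
  have hx1 : x ≠ 1 := by
    rintro rfl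
    simp at hxy
  rcases hmin _ inferInstance hinv with h | h
  · left
    by_contra hne
    obtain ⟨i, hi⟩ := Set.nonempty_iff_ne_empty.2 hne
    have hmem : (Pi.mulSingle i x : ι → T) ∈ supp (T := T) S := by
      intro j hj
      rw [Pi.mulSingle_eq_of_ne]
      rintro rfl
      exact hj hi
    rw [h, Subgroup.mem_bot] at hmem
    apply hx1
    have := congrFun hmem i
    simpa using this
  · right
    rw [Set.eq_univ_iff_forall]
    intro i
    by_contra hi
    have hmem : (Pi.mulSingle i x : ι → T) ∈ supp (T := T) S := by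
      rw [h]
      trivial
    apply hx1
    have := hmem i hi
    simpa using this

include hΨ in
theorem rel_autPerm (ψ : (ι → T) ≃* (ι → T)) (hψ : ψ ∈ Ψ) (i j : ι) :
    rel L i j ↔ rel L (autPerm hT ψ i) (autPerm hT ψ j) := by
  constructor
  · intro h g' hg'
    obtain ⟨g, rfl⟩ := ψ.surjective g'
    have hg : g ∈ L := (hΨ ψ hψ g).2 hg'
    rw [← autPerm_spec hT ψ g i, ← autPerm_spec hT ψ g j]
    exact h g hg
  · intro h g hg
    rw [autPerm_spec hT ψ g i, autPerm_spec hT ψ g j]
    exact h _ ((hΨ ψ hψ g).1 hg)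

end main

end Cfsg.Agent.Lib.H4.OScott
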