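import Mathlib
import Cfsg.Agent.Lib.H4.OScott.Scott

/-!
# The structure of an invariant maximal subgroup of a power of a non-abelian simple group
-/

set_option autoImplicit false
set_option linter.unusedSectionVars false

namespace Cfsg.Agent.Lib.H4.OScott

open scoped commutatorElement

variable {T : Type*} [Group T] {ι : Type*} [Fintype ι] [DecidableEq ι]

/-- the product of the projections -/
def projProd (L : Subgroup (ι → T)) : Subgroup (ι → T) where
  carrier := {f | ∀ i, ∃ g ∈ L, g i = f i}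
  one_mem' := fun _ => ⟨1, L.one_mem, rfl⟩
  mul_mem' := by
    intro a b ha hb i
    obtain ⟨g, hg, hgi⟩ := ha i
    obtain ⟨g', hg', hgi'⟩ := hb i
    exact ⟨g * g', L.mul_mem hg hg', by show g i * g' i = a i * b i; rw [hgi, hgi']⟩
  inv_mem' := by
    intro a ha i
    obtain ⟨g, hg, hgi⟩ := ha i
    exact ⟨g⁻¹, L.inv_mem hg, by show (g i)⁻¹ = (a i)⁻¹; rw [hgi]⟩

/-- the projection to a coordinate -/
def proj (L : Subgroup (ι → T)) (i : ι) : Subgroup T where
  carrier := {t | ∃ g ∈ L, g i = t}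
  one_mem' := ⟨1, L.one_mem, rfl⟩
  mul_mem' := by
    rintro a b ⟨g, hg, rfl⟩ ⟨g', hg', rfl⟩
    exact ⟨g * g', L.mul_mem hg hg', rfl⟩
  inv_mem' := by
    rintro a ⟨g, hg, rfl⟩
    exact ⟨g⁻¹, L.inv_mem hg, rfl⟩

/-- the subgroup of elements compatible with `L` on equivalent pairs of coordinates -/
def pairHull (L : Subgroup (ι → T)) : Subgroup (ι → T) where
  carrier := {f | ∀ i j, rel L i j → ∃ g ∈ L, g i = f i ∧ g j = f j}
  one_mem' := fun _ _ _ => ⟨1, L.one_mem, rfl, rfl⟩
  mul_mem' := by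
    intro a b ha hb i j hij
    obtain ⟨g, hg, hgi, hgj⟩ := ha i j hij
    obtain ⟨g', hg', hgi', hgj'⟩ := hb i j hij
    refine ⟨g * g', L.mul_mem hg hg', ?_, ?_⟩
    · show g i * g' i = a i * b i
      rw [hgi, hgi']
    · show g j * g' j = a j * b j
      rw [hgj, hgj']
  inv_mem' := by
    intro a ha i j hij
    obtain ⟨g, hg, hgi, hgj⟩ := ha i j hij
    refine ⟨g⁻¹, L.inv_mem hg, ?_, ?_⟩
    · show (g i)⁻¹ = (a i)⁻¹
      rw [hgi]
    · show (g j)⁻¹ = (a j)⁻¹
      rw [hgj]

section main

variable [IsSimpleGroup T] (hT : ∃ x y : T, x * y ≠ y * x)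

/-- non equivalent coordinates are independent -/
theorem exists_of_not_rel (L : Subgroup (ι → T)) (hsub : ∀ (i : ι) (t : T), ∃ f ∈ L, f i = t)
    {i j : ι} (h : ¬ rel L i j) (t : T) : ∃ g ∈ L, g i = t ∧ g j = 1 := by
  -- normal subgroups from the two kernels
  have hA : ∀ a b : ι, (∃ f ∈ L, f a ≠ 1 ∧ f b = 1) → ∀ t : T, ∃ g ∈ L, g a = t ∧ g b = 1 := by
    intro a b ⟨f, hf, hfa, hfb⟩
    let B : Subgroup T :=
      { carrier := {t | ∃ g ∈ L, g a = t ∧ g b = 1}
        one_mem' := ⟨1, L.one_mem, rfl, rfl⟩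
        mul_mem' := by
          rintro x y ⟨g, hg, rfl, hgb⟩ ⟨g', hg', rfl, hgb'⟩
          refine ⟨g * g', L.mul_mem hg hg', rfl, ?_⟩
          show g b * g' b = 1
          rw [hgb, hgb', one_mul]
        inv_mem' := by
          rintro x ⟨g, hg, rfl, hgb⟩
          refine ⟨g⁻¹, L.inv_mem hg, rfl, ?_⟩
          show (g b)⁻¹ = 1
          rw [hgb, inv_one] }
    have hBn : B.Normal := by
      constructor
      rintro x ⟨g, hg, rfl, hgb⟩ u
      obtain ⟨w, hw, rfl⟩ := hsub a u
      refine ⟨w * g * w⁻¹, L.mul_mem (L.mul_mem hw hg) (L.inv_mem hw), rfl, ?_⟩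
      show w b * g b * (w b)⁻¹ = 1
      rw [hgb, mul_one, mul_inv_cancel]
    have hBne : B ≠ ⊥ := by
      intro hB
      have : f a ∈ B := ⟨f, hf, rfl, hfb⟩
      rw [hB, Subgroup.mem_bot] at this
      exact hfa this
    intro t
    rcases hBn.eq_bot_or_eq_top with hB | hB
    · exact absurd hB hBne
    · have : t ∈ B := by rw [hB]; trivial
      exact this
  have hcases : (∃ f ∈ L, f i ≠ 1 ∧ f j = 1) ∨ (∃ f ∈ L, f j ≠ 1 ∧ f i = 1) := by
    by_contra hcon
    push Not at hcon
    apply h
    intro f hf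
    constructor
    · intro hi
      by_contra hj
      exact hj (by
        by_contra hj'
        exact (hcon.2 f hf hj') hi)
    · intro hj
      by_contra hi
      exact (hcon.1 f hf hi) hj
  rcases hcases with h1 | h1
  · exact hA i j h1 t
  · obtain ⟨g₀, hg₀, hg₀i⟩ := hsub i t
    obtain ⟨g₁, hg₁, hg₁j, hg₁i⟩ := hA j i h1 (g₀ j)
    refine ⟨g₀ * g₁⁻¹, L.mul_mem hg₀ (L.inv_mem hg₁), ?_, ?_⟩
    · show g₀ i * (g₁ i)⁻¹ = t
      rw [hg₁i, inv_one, mul_one, hg₀i]
    · show g₀ j * (g₁ j)⁻¹ = 1
      rw [hg₁j, mul_inv_cancel]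

include hT in
/-- a subdirect subgroup all of whose coordinates are pairwise independent is everything -/
theorem eq_top_of_pairwise (L : Subgroup (ι → T)) (hsub : ∀ (i : ι) (t : T), ∃ f ∈ L, f i = t)
    (hpair : ∀ i j : ι, i ≠ j → ¬ rel L i j) : L = ⊤ := by
  classical
  have key : ∀ (i : ι) (S : Finset ι), i ∉ S → ∀ t : T, ∃ g ∈ L, g i = t ∧ ∀ l ∈ S, g l = 1 := by
    intro i S
    induction S using Finset.induction_on with
    | empty =>
      intro _ t
      obtain ⟨g, hg, hgi⟩ := hsub i t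
      exact ⟨g, hg, hgi, fun l hl => absurd hl (Finset.notMem_empty l)⟩
    | insert j S' hj ih =>
      intro hi
      have hij : i ≠ j := fun h => hi (h ▸ Finset.mem_insert_self _ _)
      have hiS' : i ∉ S' := fun h => hi (Finset.mem_insert_of_mem h)
      let A : Subgroup T :=
        { carrier := {t | ∃ g ∈ L, g i = t ∧ ∀ l ∈ insert j S', g l = 1}
          one_mem' := ⟨1, L.one_mem, rfl, fun _ _ => rfl⟩
          mul_mem' := by
            rintro x y ⟨g, hg, rfl, hgl⟩ ⟨g', hg', rfl, hgl'⟩
            refine ⟨g * g', L.mul_mem hg hg', rfl, fun l hl => ?_⟩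
            show g l * g' l = 1
            rw [hgl l hl, hgl' l hl, one_mul]
          inv_mem' := by
            rintro x ⟨g, hg, rfl, hgl⟩
            refine ⟨g⁻¹, L.inv_mem hg, rfl, fun l hl => ?_⟩
            show (g l)⁻¹ = 1
            rw [hgl l hl, inv_one] }
      have hA : A = ⊤ := by
        apply eq_top_of_commutators hT
        intro t u
        obtain ⟨g, hg, hgi, hgl⟩ := ih hiS' t
        obtain ⟨h, hh, hhi, hhj⟩ := exists_of_not_rel L hsub (hpair i j hij) u
        refine ⟨g * h * g⁻¹ * h⁻¹, L.mul_mem (L.mul_mem (L.mul_mem hg hh) (L.inv_mem hg))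
          (L.inv_mem hh), ?_, ?_⟩
        · show g i * h i * (g i)⁻¹ * (h i)⁻¹ = ⁅t, u⁆
          rw [hgi, hhi, commutatorElement_def]
        · intro l hl
          show g l * h l * (g l)⁻¹ * (h l)⁻¹ = 1
          rcases Finset.mem_insert.1 hl with rfl | hl'
          · rw [hhj]
            group
          · rw [hgl l hl']
            group
      intro t
      have : t ∈ A := by rw [hA]; trivial
      exact this
  -- all singles are in `L`
  have hsingle : ∀ (i : ι) (t : T), Pi.mulSingle i t ∈ L := by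
    intro i t
    obtain ⟨g, hg, hgi, hgl⟩ := key i (Finset.univ.erase i) (Finset.notMem_erase i _) t
    have : g = Pi.mulSingle i t := by
      ext l
      by_cases hl : l = i
      · subst hl
        simp [hgi]
      · rw [Pi.mulSingle_eq_of_ne hl]
        exact hgl l (Finset.mem_erase.2 ⟨hl, Finset.mem_univ l⟩)
    rw [← this]
    exact hg
  rw [eq_top_iff]
  intro f _
  rw [← Finset.noncommProd_mulSingle f]
  apply Subgroup.noncommProd_mem
  intro i _
  exact hsingle i (f i)


include hT in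
/-- the structure theorem -/
theorem structure_thm (Ψ : Set ((ι → T) ≃* (ι → T))) (L : Subgroup (ι → T))
    (hΨ : ∀ ψ ∈ Ψ, ∀ f : ι → T, f ∈ L ↔ ψ f ∈ L)
    (hmax : ∀ X : Subgroup (ι → T), L ≤ X → (∀ ψ ∈ Ψ, ∀ f ∈ X, ψ f ∈ X) → X = L ∨ X = ⊤)
    (hmin : ∀ M : Subgroup (ι → T), M.Normal → (∀ ψ ∈ Ψ, ∀ f ∈ M, ψ f ∈ M) → M = ⊥ ∨ M = ⊤)
    (hLtop : L ≠ ⊤) :
    (∃ R : ι → Subgroup T, (∀ i, R i ≠ ⊤) ∧ ∀ f : ι → T, f ∈ L ↔ ∀ i, f i ∈ R i) ∨
    (∃ (k : ℕ) (c : ι → ι) (θ : ι → T ≃* T), 2 ≤ k ∧
      (∀ j : ι, Nat.card {i : ι // c i = j} = k ∨ Nat.card {i : ι // c i = j} = 0) ∧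
      ∀ f : ι → T, f ∈ L ↔ ∀ i j : ι, c i = c j → θ i (f i) = θ j (f j)) := by
  classical
  obtain ⟨x₀, y₀, hxy₀⟩ := hT
  have hx₀ : x₀ ≠ 1 := by
    rintro rfl
    simp at hxy₀
  have hT' : ∃ x y : T, x * y ≠ y * x := ⟨x₀, y₀, hxy₀⟩
  -- the product of the projections
  have hle1 : L ≤ projProd L := fun f hf i => ⟨f, hf, rfl⟩
  have hinv1 : ∀ ψ ∈ Ψ, ∀ f ∈ projProd L, ψ f ∈ projProd L := by
    intro ψ hψ f hf i'
    obtain ⟨i, rfl⟩ := (autPerm hT' ψ).surjective i'
    obtain ⟨g, hg, hgi⟩ := hf i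
    exact ⟨ψ g, (hΨ ψ hψ g).1 hg, autPerm_coord_eq hT' ψ hgi⟩
  rcases hmax _ hle1 hinv1 with h1 | h1
  · -- product case
    left
    refine ⟨proj L, ?_, ?_⟩
    · -- no projection is everything
      have hS : ∀ ψ ∈ Ψ, ∀ i ∈ {i : ι | proj L i = ⊤}, autPerm hT' ψ i ∈ {i : ι | proj L i = ⊤} := by
        intro ψ hψ i hi
        show proj L (autPerm hT' ψ i) = ⊤
        rw [eq_top_iff]
        intro t' _
        -- the preimage of the single
        obtain ⟨h, hh⟩ := ψ.surjective (Pi.mulSingle (autPerm hT' ψ i) t')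
        have hsupp : ∀ j, j ≠ i → h j = 1 := by
          intro j hj
          rw [autPerm_spec hT' ψ h j, hh, Pi.mulSingle_eq_of_ne]
          exact fun e => hj ((autPerm hT' ψ).injective e)
        have hhL : h ∈ L := by
          rw [← h1]
          intro j
          by_cases hj : j = i
          · subst hj
            have : h j ∈ proj L j := by
              rw [hi]
              trivial
            exact this
          · exact ⟨1, L.one_mem, (hsupp j hj).symm⟩
        refine ⟨ψ h, (hΨ ψ hψ h).1 hhL, ?_⟩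
        rw [hh]
        simp
      rcases invariant_set hT' Ψ hmin _ hS with hS' | hS'
      · intro i hi
        have : i ∈ {i : ι | proj L i = ⊤} := hi
        rw [hS'] at this
        exact this
      · exfalso
        apply hLtop
        rw [← h1, eq_top_iff]
        intro f _ i
        have hi : i ∈ {i : ι | proj L i = ⊤} := by
          rw [hS']
          trivial
        have : f i ∈ proj L i := by
          rw [hi]
          trivial
        exact this
    · intro f
      constructor
      · intro hf i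
        exact ⟨f, hf, rfl⟩
      · intro hf
        rw [← h1]
        exact hf
  · -- subdirect case
    right
    have hsub : ∀ (i : ι) (t : T), ∃ f ∈ L, f i = t := by
      intro i t
      have : (Pi.mulSingle i t : ι → T) ∈ projProd L := by
        rw [h1]
        trivial
      obtain ⟨g, hg, hgi⟩ := this i
      refine ⟨g, hg, ?_⟩
      rw [hgi]
      simp
    -- two equivalent coordinates
    obtain ⟨i₀, j₀, hij₀, hrel₀⟩ : ∃ i j : ι, i ≠ j ∧ rel L i j := by
      by_contra hcon
      push Not at hcon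
      exact hLtop (eq_top_of_pairwise hT' L hsub hcon)
    -- the hull
    have hle2 : L ≤ pairHull L := fun f hf i j _ => ⟨f, hf, rfl, rfl⟩
    have hinv2 : ∀ ψ ∈ Ψ, ∀ f ∈ pairHull L, ψ f ∈ pairHull L := by
      intro ψ hψ f hf i' j' hij'
      obtain ⟨i, rfl⟩ := (autPerm hT' ψ).surjective i'
      obtain ⟨j, rfl⟩ := (autPerm hT' ψ).surjective j'
      have hij : rel L i j := (rel_autPerm hT' Ψ L hΨ ψ hψ i j).2 hij'
      obtain ⟨g, hg, hgi, hgj⟩ := hf i j hij
      exact ⟨ψ g, (hΨ ψ hψ g).1 hg, autPerm_coord_eq hT' ψ hgi, autPerm_coord_eq hT' ψ hgj⟩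
    have hne2 : pairHull L ≠ ⊤ := by
      intro h
      have : (Pi.mulSingle i₀ x₀ : ι → T) ∈ pairHull L := by
        rw [h]
        trivial
      obtain ⟨g, hg, hgi, hgj⟩ := this i₀ j₀ hrel₀
      rw [Pi.mulSingle_eq_of_ne (Ne.symm hij₀)] at hgj
      have := (hrel₀ g hg).2 hgj
      rw [hgi] at this
      apply hx₀
      simpa using this
    have h2 : pairHull L = L := by
      rcases hmax _ hle2 hinv2 with h | h
      · exact h
      · exact absurd h hne2
    -- class sizes
    have hsize : ∀ ψ ∈ Ψ, ∀ i : ι, Nat.card {j : ι // rel L (autPerm hT' ψ i) j} =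
        Nat.card {j : ι // rel L i j} := by
      intro ψ hψ i
      symm
      apply Nat.card_congr
      refine Equiv.subtypeEquiv (autPerm hT' ψ) (fun j => ?_)
      exact rel_autPerm hT' Ψ L hΨ ψ hψ i j
    have hS : ∀ ψ ∈ Ψ, ∀ i ∈ {i : ι | Nat.card {j : ι // rel L i j} = Nat.card {j : ι // rel L i₀ j}},
        autPerm hT' ψ i ∈ {i : ι | Nat.card {j : ι // rel L i j} = Nat.card {j : ι // rel L i₀ j}} := by
      intro ψ hψ i hi
      show Nat.card {j : ι // rel L (autPerm hT' ψ i) j} = _
      rw [hsize ψ hψ i]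
      exact hi
    have hall : ∀ i : ι, Nat.card {j : ι // rel L i j} = Nat.card {j : ι // rel L i₀ j} := by
      rcases invariant_set hT' Ψ hmin _ hS with hS' | hS'
      · exfalso
        have : i₀ ∈ {i : ι | Nat.card {j : ι // rel L i j} = Nat.card {j : ι // rel L i₀ j}} := rfl
        rw [hS'] at this
        exact this
      · intro i
        have : i ∈ {i : ι | Nat.card {j : ι // rel L i j} = Nat.card {j : ι // rel L i₀ j}} := by
          rw [hS']
          trivial
        exact this
    have hk2 : 2 ≤ Nat.card {j : ι // rel L i₀ j} := by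
      rw [Nat.card_eq_fintype_card]
      apply Fintype.one_lt_card_iff.2
      exact ⟨⟨i₀, rel_refl L i₀⟩, ⟨j₀, hrel₀⟩, fun h => hij₀ (congrArg Subtype.val h)⟩
    -- representatives
    let c : ι → ι := fun i => (Quotient.mk (relSetoid L) i).out
    have hc1 : ∀ i, rel L (c i) i := fun i => Quotient.mk_out (s := relSetoid L) i
    have hc2 : ∀ i j, c i = c j ↔ rel L i j := by
      intro i j
      constructor
      · intro h
        have h1' := rel_symm (hc1 i)
        rw [h] at h1'
        exact rel_trans h1' (hc1 j)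
      · intro h
        show (Quotient.mk (relSetoid L) i).out = (Quotient.mk (relSetoid L) j).out
        have : Quotient.mk (relSetoid L) i = Quotient.mk (relSetoid L) j := Quotient.sound h
        rw [this]
    let θ : ι → T ≃* T := fun i => graphEquiv L hsub (rel_symm (hc1 i))
    have hθ : ∀ i, ∀ f ∈ L, θ i (f i) = f (c i) := fun i f hf =>
      graphEquiv_spec L hsub (rel_symm (hc1 i)) hf
    refine ⟨Nat.card {j : ι // rel L i₀ j}, c, θ, hk2, ?_, ?_⟩
    · intro j
      by_cases hj : c j = j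
      · left
        rw [← hall j]
        apply Nat.card_congr
        refine Equiv.subtypeEquivRight (fun i => ?_)
        constructor
        · intro h
          rw [← h]
          exact hc1 i
        · intro h
          rw [← hj]
          exact (hc2 i j).2 (rel_symm h)
      · right
        rw [Nat.card_eq_zero]
        left
        constructor
        rintro ⟨i, hi⟩
        apply hj
        rw [← hi]
        exact (hc2 (c i) i).2 (hc1 i)
    · intro f
      constructor
      · intro hf i j hij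
        rw [hθ i f hf, hθ j f hf, hij]
      · intro hf
        rw [← h2]
        intro i j hij
        obtain ⟨g, hg, hgi⟩ := hsub i (f i)
        refine ⟨g, hg, hgi, ?_⟩
        have hcij := (hc2 i j).2 hij
        have e1 : θ j (g j) = θ j (f j) := by
          rw [hθ j g hg, ← hcij, ← hθ i g hg, hgi]
          exact hf i j hcij
        exact (θ j).injective e1

end main

end Cfsg.Agent.Lib.H4.OScott
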