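import Mathlib
import Cfsg.Agent.Lib.H4.OScott.Main
import Cfsg.Agent.S0722

/-!
# The core of the O'Nan--Scott theorem, for a given decomposition of the socle
-/

set_option autoImplicit false
set_option linter.unusedSectionVars false

namespace Cfsg.Agent.Lib.H4.OScott

open MulAction

theorem oscott_core {α : Type*} [Finite α] (H : Subgroup (Equiv.Perm α)) [IsPreprimitive H α]
    (N : Subgroup H) [hNn : N.Normal] (hN : N ≠ ⊥)
    (hmin : ∀ M : Subgroup H, M.Normal → M ≤ N → M = ⊥ ∨ M = N) (a : α)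
    {T : Type*} [Group T] [IsSimpleGroup T] (hT : ∃ x y : T, x * y ≠ y * x) {m : ℕ}
    (e₀ : N ≃* (Fin m → T)) :
    (∃ R : Fin m → Subgroup T, (∀ i, R i ≠ ⊤) ∧
      ∀ n : N, (n : H) ∈ stabilizer H a ↔ ∀ i, e₀ n i ∈ R i) ∨
    (∃ (k : ℕ) (c : Fin m → Fin m) (θ : Fin m → T ≃* T), 2 ≤ k ∧
      (∀ j : Fin m, Nat.card {i : Fin m // c i = j} = k ∨ Nat.card {i : Fin m // c i = j} = 0) ∧
      ∀ n : N, (n : H) ∈ stabilizer H a ↔
        ∀ i j : Fin m, c i = c j → θ i (e₀ n i) = θ j (e₀ n j)) := by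
  classical
  have hnt : Nontrivial α := by
    by_contra hcon
    rw [not_nontrivial_iff_subsingleton] at hcon
    apply hN
    rw [Subgroup.eq_bot_iff_forall]
    intro x _
    apply Subtype.ext
    exact Subsingleton.elim _ _
  have hco : IsCoatom (stabilizer H a) :=
    IsPreprimitive.isCoatom_stabilizer_of_isPreprimitive H a
  obtain ⟨K, hKdef⟩ : ∃ K : Subgroup H, K = stabilizer H a := ⟨_, rfl⟩
  rw [← hKdef] at hco ⊢
  -- `N` is not contained in `K`
  have hNK : ¬ N ≤ K := by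
    intro hle
    apply hN
    rw [Subgroup.eq_bot_iff_forall]
    intro n hn
    apply Subtype.ext
    ext b
    obtain ⟨h, rfl⟩ := exists_smul_eq H a b
    have h1 : h⁻¹ * n * h ∈ N := by
      have := hNn.conj_mem n hn h⁻¹
      rwa [inv_inv] at this
    have h2 : (h⁻¹ * n * h) • a = a := by
      have := hle h1
      rw [hKdef, mem_stabilizer_iff] at this
      exact this
    have h3 : n • h • a = h • a := by
      rw [mul_smul, mul_smul] at h2
      have := congrArg (h • ·) h2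
      simpa only [smul_inv_smul] using this
    exact h3
  -- `H = K N`
  have hKN : ∀ h : H, ∃ κ ∈ K, ∃ n ∈ N, h = κ * n := by
    intro h
    have hlt : K < K ⊔ N := by
      apply lt_of_le_of_ne le_sup_left
      intro heq
      apply hNK
      rw [heq]
      exact le_sup_right
    have htop : K ⊔ N = ⊤ := hco.2 _ hlt
    have hmem : h ∈ ((K ⊔ N : Subgroup H) : Set H) := by
      rw [htop]
      trivial
    rw [Subgroup.mul_normal] at hmem
    obtain ⟨κ, hκ, n, hn, rfl⟩ := hmem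
    exact ⟨κ, hκ, n, hn, rfl⟩
  -- the automorphisms
  let ψ : H → ((Fin m → T) ≃* (Fin m → T)) := fun κ =>
    e₀.symm.trans ((MulAut.conjNormal κ : N ≃* N).trans e₀)
  have hψ : ∀ (κ : H) (n : N), ψ κ (e₀ n) = e₀ (MulAut.conjNormal κ n) := by
    intro κ n
    show e₀ ((MulAut.conjNormal κ : N ≃* N) (e₀.symm (e₀ n))) = _
    rw [MulEquiv.symm_apply_apply]
  have hconj : ∀ (κ : H) (n : N), ((MulAut.conjNormal κ n : N) : H) = κ * n * κ⁻¹ := fun κ n =>
    MulAut.conjNormal_apply κ n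
  let Ψ : Set ((Fin m → T) ≃* (Fin m → T)) := {φ | ∃ κ ∈ K, φ = ψ κ}
  let L : Subgroup (Fin m → T) := (K.subgroupOf N).map e₀.toMonoidHom
  have hL : ∀ n : N, e₀ n ∈ L ↔ (n : H) ∈ K := by
    intro n
    constructor
    · rintro ⟨n', hn', he⟩
      have : n' = n := e₀.injective he
      rw [← this]
      exact Subgroup.mem_subgroupOf.1 hn'
    · intro hn
      exact ⟨n, Subgroup.mem_subgroupOf.2 hn, rfl⟩
  have hΨ : ∀ φ ∈ Ψ, ∀ f : Fin m → T, f ∈ L ↔ φ f ∈ L := by
    rintro φ ⟨κ, hκ, rfl⟩ f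
    obtain ⟨n, rfl⟩ := e₀.surjective f
    rw [hψ, hL, hL, hconj]
    constructor
    · intro hn
      exact K.mul_mem (K.mul_mem hκ hn) (K.inv_mem hκ)
    · intro hn
      have := K.mul_mem (K.mul_mem (K.inv_mem hκ) hn) hκ
      have e : κ⁻¹ * (κ * (n : H) * κ⁻¹) * κ = n := by group
      rwa [e] at this
  have hmax : ∀ X : Subgroup (Fin m → T), L ≤ X → (∀ φ ∈ Ψ, ∀ f ∈ X, φ f ∈ X) →
      X = L ∨ X = ⊤ := by
    intro X hLX hXinv
    let X' : Subgroup H := (X.comap e₀.toMonoidHom).map N.subtype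
    have hX'mem : ∀ n : N, (n : H) ∈ X' ↔ e₀ n ∈ X := by
      intro n
      constructor
      · rintro ⟨n', hn', he⟩
        have : n' = n := Subtype.ext he
        rw [← this]
        exact hn'
      · intro hn
        exact ⟨n, hn, rfl⟩
    have hX'N : X' ≤ N := by
      rintro _ ⟨n, _, rfl⟩
      exact n.2
    have hKX' : K ⊓ N ≤ X' := by
      rintro h ⟨hK, hNm⟩
      have : ((⟨h, hNm⟩ : N) : H) ∈ X' := by
        rw [hX'mem]
        apply hLX
        rw [hL]
        exact hK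
      exact this
    have hfwd : ∀ κ ∈ K, ∀ h ∈ X', κ * h * κ⁻¹ ∈ X' := by
      rintro κ hκ _ ⟨n, hn, rfl⟩
      have h1 : ψ κ (e₀ n) ∈ X := hXinv _ ⟨κ, hκ, rfl⟩ _ hn
      rw [hψ] at h1
      have h2 := (hX'mem _).2 h1
      rw [hconj] at h2
      exact h2
    have hnorm : K ≤ Subgroup.normalizer (X' : Set H) := by
      intro κ hκ
      rw [Subgroup.mem_normalizer_iff]
      intro h
      constructor
      · exact hfwd κ hκ h
      · intro hh
        have := hfwd κ⁻¹ (K.inv_mem hκ) _ hh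
        have e : κ⁻¹ * (κ * h * κ⁻¹) * κ⁻¹⁻¹ = h := by group
        rwa [e] at this
    rw [hKdef] at hKX' hnorm
    rcases Cfsg.Agent.S0722.result H N hN hmin a X' hX'N hKX' hnorm with h | h
    · left
      apply le_antisymm _ hLX
      intro f hf
      obtain ⟨n, rfl⟩ := e₀.surjective f
      have h1 := (hX'mem n).2 hf
      rw [h, ← hKdef] at h1
      rw [hL]
      exact h1.1
    · right
      rw [eq_top_iff]
      intro f _
      obtain ⟨n, rfl⟩ := e₀.surjective f
      rw [← hX'mem, h]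
      exact n.2
  have hmin' : ∀ M : Subgroup (Fin m → T), M.Normal → (∀ φ ∈ Ψ, ∀ f ∈ M, φ f ∈ M) →
      M = ⊥ ∨ M = ⊤ := by
    intro M hMn hMinv
    let M' : Subgroup H := (M.comap e₀.toMonoidHom).map N.subtype
    have hM'mem : ∀ n : N, (n : H) ∈ M' ↔ e₀ n ∈ M := by
      intro n
      constructor
      · rintro ⟨n', hn', he⟩
        have : n' = n := Subtype.ext he
        rw [← this]
        exact hn'
      · intro hn
        exact ⟨n, hn, rfl⟩
    have hM'N : M' ≤ N := by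
      rintro _ ⟨n, _, rfl⟩
      exact n.2
    have hM'n : M'.Normal := by
      constructor
      rintro _ ⟨n, hn, rfl⟩ h
      obtain ⟨κ, hκ, n₁, hn₁, rfl⟩ := hKN h
      -- conjugate by `n₁`
      have h1 : e₀ (⟨n₁, hn₁⟩ * n * ⟨n₁, hn₁⟩⁻¹) ∈ M := by
        rw [map_mul, map_mul, map_inv]
        exact hMn.conj_mem _ hn _
      have h2 : ψ κ (e₀ (⟨n₁, hn₁⟩ * n * ⟨n₁, hn₁⟩⁻¹)) ∈ M := hMinv _ ⟨κ, hκ, rfl⟩ _ h1
      rw [hψ] at h2
      have h3 := (hM'mem _).2 h2
      rw [hconj] at h3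
      have e : κ * n₁ * N.subtype n * (κ * n₁)⁻¹ =
          κ * ((⟨n₁, hn₁⟩ * n * ⟨n₁, hn₁⟩⁻¹ : N) : H) * κ⁻¹ := by
        simp only [Subgroup.subtype_apply, Subgroup.coe_mul, Subgroup.coe_inv]
        group
      rw [e]
      exact h3
    rcases hmin M' hM'n hM'N with h | h
    · left
      rw [Subgroup.eq_bot_iff_forall]
      intro f hf
      obtain ⟨n, rfl⟩ := e₀.surjective f
      have h1 := (hM'mem n).2 hf
      rw [h, Subgroup.mem_bot] at h1
      have : n = 1 := Subtype.ext h1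
      rw [this, map_one]
    · right
      rw [eq_top_iff]
      intro f _
      obtain ⟨n, rfl⟩ := e₀.surjective f
      rw [← hM'mem, h]
      exact n.2
  have hLtop : L ≠ ⊤ := by
    intro h
    apply hNK
    intro n hn
    have : e₀ ⟨n, hn⟩ ∈ L := by
      rw [h]
      trivial
    exact (hL _).1 this
  rcases structure_thm hT Ψ L hΨ hmax hmin' hLtop with ⟨R, hR, hmem⟩ | ⟨k, c, θ, hk, hc, hmem⟩
  · left
    refine ⟨R, hR, fun n => ?_⟩
    rw [← hL, hmem]
  · right
    refine ⟨k, c, θ, hk, hc, fun n => ?_⟩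
    rw [← hL, hmem]

end Cfsg.Agent.Lib.H4.OScott
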